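import Groth.Agent.LeadAff.Criterion
import Groth.Agent.LeadDev.Rules
import Groth.Agent.H10Coh.AffineLeray
import Groth.Agent.H10Coh.AffinePush
import Groth.Agent.H10Coh.ExtMap
import Groth.Agent.H29Blow.Basic
import Groth.Agent.H17.ConsPropBasic
import Groth.Agent.H11Tilde.TwistPow

/-!
# Chevalley's theorem: finite surjective images of affine schemes are affine
-/

set_option autoImplicit false
set_option linter.style.haveILetI false
set_option linter.unusedSectionVars false

universe u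

open CategoryTheory CategoryTheory.Limits AlgebraicGeometry Opposite TopologicalSpace

namespace Groth.Agent.LeadAff

attribute [local instance 10000] H10Coh.hasSheafifyAb H10Coh.hasWeakSheafifyAb H10Coh.hasExtAb H10Coh.enoughInjAb

theorem exists_dvd_image {R S : Type*} [CommRing R] [CommRing S] [IsDomain S] (φ : R →+* S) (x : S) (hx : x ≠ 0)
    (hint : φ.IsIntegralElem x) : ∃ r, φ r ≠ 0 ∧ x ∣ φ r := by
  obtain ⟨p, hp, hpx⟩ := hint
  suffices H : ∀ n (p : Polynomial R), p.natDegree = n → p.Monic → p.eval₂ φ x = 0 → ∃ r, φ r ≠ 0 ∧ x ∣ φ r from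
    H _ p rfl hp hpx
  intro n
  induction n with
  | zero =>
    intro p hd hp hpx
    rw [hp.natDegree_eq_zero.1 hd, Polynomial.eval₂_one] at hpx
    exact absurd hpx one_ne_zero
  | succ n ih =>
    intro p hd hp hpx
    have e : p = Polynomial.X * p.divX + Polynomial.C (p.coeff 0) := (Polynomial.X_mul_divX_add p).symm
    have hsum : x * p.divX.eval₂ φ x + φ (p.coeff 0) = 0 := by
      rw [e, Polynomial.eval₂_add, Polynomial.eval₂_mul, Polynomial.eval₂_X, Polynomial.eval₂_C] at hpx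
      exact hpx
    by_cases h0 : φ (p.coeff 0) = 0
    · rw [h0, add_zero] at hsum
      refine ih p.divX (by rw [Polynomial.natDegree_divX_eq_natDegree_tsub_one, hd]; omega) ?_
        ((mul_eq_zero.1 hsum).resolve_left hx)
      rw [Polynomial.Monic, Polynomial.leadingCoeff, Polynomial.coeff_divX,
        Polynomial.natDegree_divX_eq_natDegree_tsub_one, hd, Nat.add_sub_cancel, ← hd]
      exact hp
    · exact ⟨_, h0, Dvd.intro (-p.divX.eval₂ φ x) (by rw [mul_neg]; exact (eq_neg_of_add_eq_zero_right hsum).symm)⟩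

theorem isCoh_structureModule (X : Scheme.{u}) : Coh.IsCoh (Coh.structureModule X) :=
  (H10Coh.isCoh_iff_finite_sections _).2 ⟨H10Coh.isQuasicoherent_unit, fun U _ => (Module.Finite.self Γ(X, U) :)⟩

/-- Morphisms agreeing on affine opens are equal. -/
theorem hom_ext_affine {X : Scheme.{u}} {M N : X.Modules} (a b : M ⟶ N)
    (h : ∀ U : X.Opens, IsAffineOpen U → ∀ s, a.app U s = b.app U s) : a = b := by
  refine Scheme.Modules.hom_ext _ _ fun O => ConcreteCategory.hom_ext _ _ fun s => ?_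
  refine TopCat.Sheaf.eq_of_locally_eq' (H10Coh.sheafOf N)
    (fun V : {V : X.Opens // IsAffineOpen V ∧ V ≤ O} => V.1) O (fun V => homOfLE V.2.2) ?_ _ _ fun V => ?_
  · intro x hx
    obtain ⟨V, hV, hxV, hle⟩ := exists_isAffineOpen_mem_and_subset (U := O) hx
    exact Opens.mem_iSup.2 ⟨⟨V, hV, hle⟩, hxV⟩
  · exact (congr($((Scheme.Modules.Hom.mapPresheaf a).naturality (homOfLE V.2.2).op) s)).symm.trans
      ((h V.1 V.2.1 _).trans (congr($((Scheme.Modules.Hom.mapPresheaf b).naturality (homOfLE V.2.2).op) s)))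

section step

variable {X T : Scheme.{u}} [IsNoetherian X] (g : T ⟶ X) [IsFinite g] [IsAffine T] [IsIntegral T]

theorem mem_basicOpen_iff {W : X.Opens} (c : Γ(X, W)) (_hW : g (genericPoint T) ∈ W) :
    g (genericPoint T) ∈ X.basicOpen c ↔ g.app W c ≠ 0 := by
  rw [Ne, ← basicOpen_eq_bot_iff]
  constructor
  · intro h hb
    have h' : genericPoint T ∈ g ⁻¹ᵁ X.basicOpen c := h
    rw [Scheme.preimage_basicOpen, hb] at h'
    exact h'
  · intro hb
    obtain ⟨z, hz⟩ : (T.basicOpen (g.app W c) : Set T).Nonempty := by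
      by_contra he
      exact hb (Opens.ext (Set.not_nonempty_iff_eq_empty.1 he))
    have : genericPoint T ∈ T.basicOpen (g.app W c) :=
      ((genericPoint_spec T).mem_open_set_iff (T.basicOpen (g.app W c)).2).2 ⟨z, trivial, hz⟩
    rw [← Scheme.preimage_basicOpen] at this
    exact this

theorem mem_support : g (genericPoint T) ∈ CohB1.support ((Coh.push g).obj (Coh.structureModule T)) := by
  by_contra hc
  obtain ⟨W, hW, hξW, -⟩ := exists_isAffineOpen_mem_and_subset (U := (⊤ : X.Opens)) (x := g (genericPoint T)) trivial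
  haveI : (Coh.structureModule T).IsQuasicoherent := H10Coh.isQuasicoherent_unit
  obtain ⟨c, hc', hc0⟩ := LeadDev.exists_unitAt_smul_eq_zero hW hξW _
    (H10Coh.isQuasicoherent_pushforward_of_isAffineHom g (Coh.structureModule T)) hc
    (show Γ((Coh.push g).obj (Coh.structureModule T), W) from (1 : Γ(T, g ⁻¹ᵁ W)))
  exact (mem_basicOpen_iff g c hξW).1 hc' ((mul_one _).symm.trans hc0)

theorem exists_mono_idealMul (J : X.IdealSheafData) (hJ : g (genericPoint T) ∉ (J.support : Set X))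
    {W : X.Opens} (hW : IsAffineOpen W) (hξW : g (genericPoint T) ∈ W) :
    ∃ ι' : (Coh.push g).obj (Coh.structureModule T) ⟶ (Dual3.idealMul J).obj ((Coh.push g).obj (Coh.structureModule T)),
      Mono ι' ∧ LeadDev.SurjAt (g (genericPoint T)) W (ι' ≫ Dual3.idealMulι J _) := by
  haveI : (Coh.structureModule T).IsQuasicoherent := H10Coh.isQuasicoherent_unit
  set G := (Coh.push g).obj (Coh.structureModule T)
  have hG : Coh.IsCoh G := H10Coh.isCoh_push_of_isFinite g _ (isCoh_structureModule _)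
  obtain ⟨b, hb, hb0⟩ : ∃ b ∈ (J.comap g).ideal ⟨⊤, isAffineOpen_top T⟩, b ≠ 0 := by
    by_contra hc
    push Not at hc
    refine hJ ?_
    have h : genericPoint T ∈ ((J.comap g).support : Set T) := by
      refine (((J.comap g).coe_support_inter ⟨⊤, isAffineOpen_top T⟩).ge ⟨?_, trivial⟩).1
      rw [Scheme.mem_zeroLocus_iff]
      exact fun a ha => by rw [hc a ha, Scheme.basicOpen_zero]; exact id
    rwa [Scheme.IdealSheafData.support_comap] at h
  let μ : G ⟶ G := (Coh.push g).map (H10Coh.mulΓ b)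
  have hμ : ∀ (U : X.Opens) (s : Γ(T, g ⁻¹ᵁ U)), μ.app U (show Γ(G, U) from s) =
      (show Γ(G, U) from (T.presheaf.map (homOfLE le_top).op b * s : Γ(T, g ⁻¹ᵁ U))) := fun U s =>
    H10Coh.mulΓ_app b (g ⁻¹ᵁ U) s
  haveI : IsLocallyNoetherian T := LocallyOfFiniteType.isLocallyNoetherian g
  haveI : IsNoetherian T := ⟨⟩
  haveI : Mono (H10Coh.mulΓ b) := LeadDev.mono_of_injective_sections _ fun U s t hst => by
    by_cases hU : (U : Set T).Nonempty
    · haveI : Nonempty ↥U := hU.to_subtype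
      haveI : Nonempty ↥U.toScheme := hU.to_subtype
      refine mul_left_cancel₀ (M₀ := Γ(T, U)) ?_ hst
      exact fun h => hb0 (map_injective_of_isIntegral (X := T) (homOfLE le_top) (h.trans (map_zero _).symm))
    · haveI : Subsingleton Γ(T, U) := by
        rw [show U = ⊥ from Opens.ext (Set.not_nonempty_iff_eq_empty.1 hU)]; infer_instance
      exact Subsingleton.elim (α := Γ(T, U)) s t
  haveI : Mono μ := inferInstanceAs (Mono ((Coh.push g).map (H10Coh.mulΓ b)))
  let η := (Scheme.Modules.pullbackPushforwardAdjunction J.subschemeι).unit.app G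
  have hμη : μ ≫ η = 0 := by
    haveI := hG.1
    haveI : ((Scheme.Modules.pullback J.subschemeι).obj G).IsQuasicoherent := H29Fitt.isQCoh_pullback _ G hG.1
    refine hom_ext_affine _ _ fun U hU s => ?_
    have hbU : T.presheaf.map (homOfLE (le_top : g ⁻¹ᵁ U ≤ ⊤)).op b ∈ (J.ideal ⟨U, hU⟩).map (g.app U).hom := by
      have h1 := (J.comap g).map_ideal (U := ⟨g ⁻¹ᵁ U, hU.preimage g⟩) (V := ⟨⊤, isAffineOpen_top T⟩) (le_top : g ⁻¹ᵁ U ≤ ⊤)
      have h2 : T.presheaf.map (homOfLE (le_top : g ⁻¹ᵁ U ≤ ⊤)).op b ∈ (J.comap g).ideal ⟨g ⁻¹ᵁ U, hU.preimage g⟩ :=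
        h1 ▸ Ideal.mem_map_of_mem _ hb
      rwa [H29Blow.ideal_comap J g ⟨U, hU⟩ ⟨g ⁻¹ᵁ U, hU.preimage g⟩ le_rfl, Scheme.Hom.appLE_eq_app] at h2
    show η.app U (μ.app U s) = 0
    rw [hμ U s]
    generalize T.presheaf.map (homOfLE (le_top : g ⁻¹ᵁ U ≤ ⊤)).op b = b' at hbU ⊢
    clear hμ
    suffices h : ∀ s : Γ(T, g ⁻¹ᵁ U), η.app U (show Γ(G, U) from (b' * s : Γ(T, g ⁻¹ᵁ U))) = 0 from h s
    induction hbU using Submodule.span_induction with
    | mem x hx =>
      obtain ⟨a, ha, rfl⟩ := hx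
      intro s
      obtain ⟨w, hw⟩ := LeadDev.exists_idealMulι_app_eq J G hG ⟨U, hU⟩ a ha (show Γ(G, U) from s)
      refine (congrArg (η.app U) hw.symm).trans ?_
      exact congr($(congr(Scheme.Modules.Hom.app $(kernel.condition η) U)) w)
    | zero => intro s; rw [zero_mul]; exact map_zero _
    | add x y _ _ hx hy => intro s; rw [add_mul]; exact (map_add (η.app U).hom _ _).trans (by erw [hx s, hy s, add_zero])
    | smul a x _ hx => intro s; rw [smul_eq_mul, mul_comm a x, mul_assoc]; exact hx (a * s)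
  refine ⟨kernel.lift η μ hμη, mono_of_mono_fac (kernel.lift_ι η μ hμη), ?_⟩
  have hlift : kernel.lift η μ hμη ≫ Dual3.idealMulι J G = μ := kernel.lift_ι η μ hμη
  refine Eq.mpr (congrArg (LeadDev.SurjAt (g (genericPoint T)) W) hlift) ?_
  intro y
  have hne : (g ⁻¹ᵁ W : Set T).Nonempty := ⟨genericPoint T, hξW⟩
  haveI : Nonempty ↥(g ⁻¹ᵁ W) := hne.to_subtype
  haveI : Nonempty ↥(g ⁻¹ᵁ W).toScheme := hne.to_subtype
  obtain ⟨c, hc, d, hd⟩ := exists_dvd_image (g.app W).hom (T.presheaf.map (homOfLE le_top).op b)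
    (fun h => hb0 (map_injective_of_isIntegral (X := T) (homOfLE le_top) (h.trans (map_zero _).symm)))
    ((IsFinite.finite_app (f := g) W hW).to_isIntegral _)
  refine ⟨c, (show Γ(G, W) from (d * (show Γ(T, g ⁻¹ᵁ W) from y) : Γ(T, g ⁻¹ᵁ W))), (mem_basicOpen_iff g c hξW).2 hc, ?_⟩
  rw [hμ W, ← mul_assoc, ← hd]
  rfl

end step

theorem isAffine_of_finite_surjective {Y X : Scheme.{u}} (f : Y ⟶ X) [IsFinite f] [Surjective f] [IsAffine Y]
    [IsNoetherian X] : IsAffine X := by
  refine isAffine_of_HH_one_ft fun I ι _ hIq hIft => ?_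
  haveI : IsLocallyNoetherian Y := LocallyOfFiniteType.isLocallyNoetherian f
  haveI : IsNoetherian Y := ⟨⟩
  let P : X.Modules → Prop := fun M => Subsingleton (H10Coh.HnM M 1 ⊤)
  suffices h : P I from @Equiv.subsingleton _ _ (H10Coh.HHEquiv I 1).toEquiv h
  have hP : ∀ M N : X.Modules, Nonempty (M ≅ N) → P M → P N := fun M N ⟨e⟩ h => subsingleton_of_forall_eq 0 fun x => by
    rw [← Abelian.Ext.comp_mk₀_id x, show 𝟙 (H10Coh.sh N) = (H10Coh.shF X).map e.inv ≫ (H10Coh.shF X).map e.hom by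
      rw [← Functor.map_comp, e.inv_hom_id]; exact ((H10Coh.shF X).map_id _).symm,
      ← Abelian.Ext.mk₀_comp_mk₀, ← Abelian.Ext.comp_assoc_of_second_deg_zero,
      show x.comp _ (add_zero 1) = 0 from h.elim _ _, Abelian.Ext.zero_comp]
  have h0 : ∀ M : X.Modules, IsZero M → P M := fun M hM => subsingleton_of_forall_eq 0 fun x => by
    rw [← Abelian.Ext.comp_mk₀_id x, ((H10Coh.shF X).map_isZero hM).eq_of_src (𝟙 _) 0, Abelian.Ext.mk₀_zero,
      Abelian.Ext.comp_zero]
  have hext : ∀ S : ShortComplex X.Modules, S.ShortExact → Coh.IsCoh S.X₁ → Coh.IsCoh S.X₂ → Coh.IsCoh S.X₃ →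
      P S.X₁ → P S.X₃ → P S.X₂ := fun S hS _ _ _ h1 h3 => subsingleton_of_forall_eq 0 fun x => by
    obtain ⟨y, rfl⟩ := Abelian.Ext.covariant_sequence_exact₂ _ (H10Coh.shortExact_sh hS) x (h3.elim _ _)
    rw [show y = 0 from h1.elim _ _]
    exact Abelian.Ext.zero_comp (C := CohTop.Ab X.toTopCat) _ _ _ _ _
  refine LeadDev.devissage_induction Set.univ P hP h0 hext ?_ I ⟨hIq, hIft⟩ (Set.subset_univ _)
  intro Z i _ _ _ hsmall I₀ ι₀ _ hI₀
  obtain ⟨y, hy⟩ := f.surjective (i (genericPoint Z))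
  obtain ⟨T, j, hT, -, hj, hjr⟩ :=
    H17.ConsProp.exists_integral_closed (closure {y}) isClosed_closure isIrreducible_singleton.closure
  haveI := hT
  haveI := hj
  haveI : IsAffine T := isAffine_of_isAffineHom j
  let g := j ≫ f
  haveI : IsFinite g := inferInstanceAs (IsFinite (j ≫ f))
  have hgen : j (genericPoint T) = y := by
    have h1 : IsGenericPoint (j (genericPoint T)) (closure {y}) :=
      ((LeadDev.range_eq_closure j (ξ := j (genericPoint T)) rfl).symm.trans hjr)
    exact h1.eq rfl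
  have hξ : i (genericPoint Z) = g (genericPoint T) := by
    show _ = f (j (genericPoint T)); rw [hgen, hy]
  obtain ⟨W, hW, hξW, -⟩ := exists_isAffineOpen_mem_and_subset (U := (⊤ : X.Opens)) (x := i (genericPoint Z)) trivial
  haveI : (Coh.structureModule T).IsQuasicoherent := H10Coh.isQuasicoherent_unit
  have hG : Coh.IsCoh ((Coh.push g).obj (Coh.structureModule T)) :=
    H10Coh.isCoh_push_of_isFinite g _ (isCoh_structureModule _)
  obtain ⟨r, hr, -, -, hPr⟩ := LeadDev.key_step i rfl I₀ ι₀ hI₀ P h0 hsmall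
    (fun S hS a b c _ => hext S hS a b c) hW hξW _ hG (hξ ▸ mem_support g)
    (fun a ha s => ⟨1, LeadDev.unitAt_one hξW, by
      have h0' : g.app W a = 0 := by
        by_contra h
        exact ha (hξ ▸ (mem_basicOpen_iff g a (hξ ▸ hξW)).2 h)
      rw [one_smul]
      show g.app W a * (show Γ(T, g ⁻¹ᵁ W) from s) = 0
      rw [h0', zero_mul]⟩)
    (fun J hJ => by
      obtain ⟨ι', hι', hs⟩ := exists_mono_idealMul g J (hξ ▸ hJ) hW (hξ ▸ hξW)
      refine ⟨_, ι', hι', hG, hξ ▸ hs, ?_⟩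
      have h1 := H10Coh.subsingleton_HnM_of_isAffineOpen (Coh.structureModule T) (isAffineOpen_top T) 0
      exact @Equiv.subsingleton _ _ (H10Coh.affineLerayEquiv g (Coh.structureModule T) 1 ⊤).toEquiv h1)
  refine subsingleton_of_forall_eq 0 fun x => ?_
  let A := (Coh.push i).obj I₀
  rw [← Abelian.Ext.comp_mk₀_id x, show 𝟙 (H10Coh.sh A) =
      (H10Coh.shF X).map (biproduct.ι (fun _ : Fin r => A) ⟨0, hr⟩) ≫ (H10Coh.shF X).map (biproduct.π _ ⟨0, hr⟩) by
    rw [← Functor.map_comp, biproduct.ι_π_self]; exact ((H10Coh.shF X).map_id _).symm,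
    ← Abelian.Ext.mk₀_comp_mk₀, ← Abelian.Ext.comp_assoc_of_second_deg_zero,
    show x.comp _ (add_zero 1) = 0 from hPr.elim _ _, Abelian.Ext.zero_comp]

end Groth.Agent.LeadAff
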