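import Groth.Agent.LeadQSub.Extend
import Groth.Agent.H10Coh.Serre

/-!
# Serre's affineness criterion with ideals of finite type
-/

set_option autoImplicit false
set_option linter.style.haveILetI false
set_option linter.unusedSectionVars false

universe u

open CategoryTheory CategoryTheory.Limits AlgebraicGeometry Opposite TopologicalSpace

namespace Groth.Agent.LeadAff

open LeadQSub

attribute [local instance 10000] H10Coh.hasSheafifyAb H10Coh.hasWeakSheafifyAb H10Coh.hasExtAb H10Coh.enoughInjAb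

variable {X : Scheme.{u}}

/-- Two families with charts have charts together. -/
theorem hasCharts_union {F : X.Modules} {Γ₁ Γ₂ : Gens F} (h₁ : HasCharts Γ₁ ⊤) (h₂ : HasCharts Γ₂ ⊤) :
    HasCharts (Γ₁ ∪ Γ₂) ⊤ := by
  intro x hx
  obtain ⟨V₁, S₁, hx₁, -, c₁⟩ := h₁ x hx
  obtain ⟨V₂, S₂, hx₂, -, c₂⟩ := h₂ x hx
  obtain ⟨D, hD, hxD, hle⟩ := exists_isAffineOpen_mem_and_subset (U := V₁ ⊓ V₂) (x := x) ⟨hx₁, hx₂⟩
  have d₁ := c₁.restrict hD (fun y hy => (hle hy).1)
  have d₂ := c₂.restrict hD (fun y hy => (hle hy).2)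
  refine ⟨D, _ ∪ _, hxD, le_top, hD, d₁.finite.union d₂.finite, ?_, ?_⟩
  · rintro s (hs | hs)
    · exact (d₁.mem s hs).mono Set.subset_union_left
    · exact (d₂.mem s hs).mono Set.subset_union_right
  · rintro g (hg | hg)
    · refine LocSpan.mono ?_ (d₁.le g hg)
      rintro _ ⟨s, hs, rfl⟩
      exact ⟨s, Or.inl hs, rfl⟩
    · refine LocSpan.mono ?_ (d₂.le g hg)
      rintro _ ⟨s, hs, rfl⟩
      exact ⟨s, Or.inr hs, rfl⟩

theorem hasCharts_empty (F : X.Modules) : HasCharts (∅ : Gens F) ⊤ := fun x _ => by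
  obtain ⟨V, hV, hxV, -⟩ := exists_isAffineOpen_mem_and_subset (U := (⊤ : X.Opens)) (x := x) trivial
  exact ⟨V, ∅, hxV, le_top, hV, Set.finite_empty, fun s hs => hs.elim, fun g hg => hg.elim⟩

variable [CompactSpace X] [QuasiSeparatedSpace X]

/-- A section on an affine open lies in a submodule of finite type. -/
theorem exists_charts_single {F : X.Modules} (hF : Coh.IsQCoh F) {W : X.Opens} (hW : IsAffineOpen W) (s : Γ(F, W)) :
    ∃ Γs : Gens F, (⟨W, s⟩ : Σ W : X.Opens, Γ(F, W)) ∈ Γs ∧ HasCharts Γs ⊤ := by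
  obtain ⟨k, U, hU, -, hcov⟩ := H10Coh.exists_finite_affine_cover (W := (⊤ : X.Opens)) isCompact_univ
  have hint : ∀ a : Fin k, ∀ (O : X.Opens), IsAffineOpen O → IsCompact ((U a : Set X) ∩ (O : Set X)) :=
    fun a O hO => QuasiSeparatedSpace.inter_isCompact _ _ (U a).2 (hU a).isCompact O.2 hO.isCompact
  obtain ⟨Γs, hsub, hch, -⟩ := exists_extension (F := F) U W {⟨W, s⟩} hF hU (top_le_iff.1 hcov)
    (fun l => by
      rw [Set.inter_iUnion₂]
      exact (Set.toFinite (Set.Iio l)).isCompact_biUnion fun m _ => hint l (U m) (hU m))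
    (fun l => hint l W hW) (by rintro g rfl; exact le_rfl) (fun x hx => ⟨W, {s}, hx, le_rfl, hW,
      Set.finite_singleton _, fun z hz => by rw [Set.mem_singleton_iff.1 hz]; exact locSpan_gen (⟨W, s⟩ : Σ W : X.Opens, Γ(F, W)) rfl, by
        rintro g rfl
        exact locSpan_res inf_le_left (locSpan_gen (Γs := ofSet W ({s} : Set Γ(F, W))) ⟨W, s⟩ ⟨s, rfl, rfl⟩)⟩)
  exact ⟨Γs, hsub rfl, hch⟩

/-- Finitely many sections on affine opens lie in one submodule of finite type. -/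
theorem exists_ft_submodule {F : X.Modules} (hF : Coh.IsQCoh F) {ι : Type u} [Finite ι] (W : ι → X.Opens)
    (hW : ∀ i, IsAffineOpen (W i)) (s : ∀ i, Γ(F, W i)) :
    ∃ (J : X.Modules) (j : J ⟶ F), Mono j ∧ Coh.IsQCoh J ∧ CohB1.IsFT J ∧
      ∀ i, ∃ y, j.app (W i) y = s i := by
  classical
  choose Γs hmem hch using fun i => exists_charts_single hF (hW i) (s i)
  have : Fintype ι := Fintype.ofFinite ι
  have key : ∀ t : Finset ι, HasCharts (⋃ i ∈ t, Γs i) ⊤ := by
    intro t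
    induction t using Finset.induction with
    | empty => simpa using hasCharts_empty F
    | insert a t ha ih => rw [Finset.set_biUnion_insert]; exact hasCharts_union (hch a) ih
  refine ⟨spanMod (⋃ i ∈ (Finset.univ : Finset ι), Γs i), spanι _, inferInstance,
    isQuasicoherent_spanMod hF (key _), isFT_spanMod hF (key _), fun i => (mem_range_spanι _).2
      (locSpan_gen (⟨W i, s i⟩ : Σ W : X.Opens, Γ(F, W)) (Set.mem_biUnion (Finset.mem_univ i) (hmem i)))⟩

/-- Vanishing of `H¹` for finite type submodules of `O` makes global sections exact. -/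
theorem gammaExact_of_HH_one_ft
    (h : ∀ (I : X.Modules) (i : I ⟶ Coh.structureModule X), Mono i →
      Coh.IsQCoh I → CohB1.IsFT I → Subsingleton (Coh.HH X I 1)) : H10Coh.GammaExact X := by
  intro S j hS hj h1 h2 h3 t
  haveI := hj
  haveI := hS.mono_f
  haveI := hS.epi_g
  haveI := h2
  haveI := h3
  obtain ⟨k, U, hU, -, hcov⟩ := H10Coh.exists_finite_affine_cover (W := (⊤ : X.Opens)) isCompact_univ
  choose s hs using fun a => H10Coh.surjective_app_of_epi S.g (hU a)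
    (H10Coh.rs S.X₃ (le_top : U a ≤ ⊤) t)
  choose n W hW hWle hWcov using fun p : Fin k × Fin k => H10Coh.exists_finite_affine_cover
    (W := U p.1 ⊓ U p.2) (QuasiSeparatedSpace.inter_isCompact _ _ (U p.1).2 (hU p.1).isCompact (U p.2).2 (hU p.2).isCompact)
  let ι : Type u := ULift.{u} ((p : Fin k × Fin k) × Fin (n p))
  have hg : ∀ {A B : X.Modules} (f : A ⟶ B) {V W : X.Opens} (h : V ≤ W) (x : Γ(A, W)),
      f.app V (H10Coh.rs A h x) = H10Coh.rs B h (f.app W x) :=
    fun {A B} f {V W} h x => congr($((Scheme.Modules.Hom.mapPresheaf f).naturality (homOfLE h).op) x)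
  have hdiff : ∀ i : ι, ∃ d, S.f.app (W i.down.1 i.down.2) d =
      H10Coh.rs S.X₂ ((hWle i.down.1 i.down.2).trans inf_le_left) (s i.down.1.1) -
        H10Coh.rs S.X₂ ((hWle i.down.1 i.down.2).trans inf_le_right) (s i.down.1.2) := fun i => by
    refine H10Coh.exists_app_eq_of_exact hS _ _ ?_
    rw [map_sub, hg, hg, hs, hs, H10Coh.rs_rs, H10Coh.rs_rs, sub_self]
  choose d hd using hdiff
  obtain ⟨J, jJ, hjJ, hJq, hJft, hJd⟩ :=
    exists_ft_submodule h1 (fun i : ι => W i.down.1 i.down.2) (fun i => hW _ _) d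
  haveI := hjJ
  let π := cokernel.π (jJ ≫ S.f)
  have hS' : (ShortComplex.mk (jJ ≫ S.f) π (cokernel.condition _)).ShortExact :=
    { exact := ShortComplex.exact_cokernel _
      mono_f := inferInstanceAs (Mono (jJ ≫ S.f))
      epi_g := inferInstanceAs (Epi (cokernel.π (jJ ≫ S.f))) }
  let q : cokernel (jJ ≫ S.f) ⟶ S.X₃ := cokernel.desc _ S.g (by rw [Category.assoc, S.zero, comp_zero])
  have hq : π ≫ q = S.g := cokernel.π_desc _ _ _
  let C := cokernel (jJ ≫ S.f)
  have hcompat : ∀ a b, H10Coh.rs C (inf_le_left : U a ⊓ U b ≤ U a) (π.app _ (s a)) =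
      H10Coh.rs C (inf_le_right : U a ⊓ U b ≤ U b) (π.app _ (s b)) := fun a b => by
    refine TopCat.Sheaf.eq_of_locally_eq' (H10Coh.sheafOf C) (W (a, b)) (U a ⊓ U b)
      (fun l => homOfLE (hWle (a, b) l)) (hWcov (a, b)) _ _ fun l => ?_
    show H10Coh.rs C (hWle (a, b) l) _ = H10Coh.rs C (hWle (a, b) l) _
    rw [H10Coh.rs_rs, H10Coh.rs_rs, ← hg, ← hg, ← sub_eq_zero, ← map_sub, ← hd ⟨⟨(a, b), l⟩⟩]
    obtain ⟨y, hy⟩ := hJd ⟨⟨(a, b), l⟩⟩
    rw [← hy]
    exact congr($(congr(Scheme.Modules.Hom.app $(cokernel.condition (jJ ≫ S.f)) (W (a, b) l))) y)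
  obtain ⟨t', ht', -⟩ := (H10Coh.sheafOf C).existsUnique_gluing' U ⊤ (fun a => homOfLE le_top) hcov
    (fun a => π.app _ (s a)) hcompat
  have ht : q.app ⊤ t' = t := by
    refine TopCat.Sheaf.eq_of_locally_eq' (H10Coh.sheafOf S.X₃) U ⊤ (fun a => homOfLE le_top) hcov _ _ fun a => ?_
    show H10Coh.rs S.X₃ _ (q.app ⊤ t') = H10Coh.rs S.X₃ _ t
    refine ((hg q (le_top : U a ≤ ⊤) t').symm.trans ((congrArg (q.app (U a)) (ht' a)).trans ?_))
    rw [← hs a, ← hq]
    rfl
  obtain ⟨b, hb⟩ := H10Coh.surjective_app_of_subsingleton_HnM hS' ⊤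
    (@Equiv.subsingleton _ _ (H10Coh.HHEquiv J 1).toEquiv.symm (h J (jJ ≫ j) inferInstance hJq hJft)) t'
  refine ⟨b, ?_⟩
  rw [← hq, ← ht, ← hb]
  rfl

/-- Serre's criterion, finite type ideals. -/
theorem isAffine_of_HH_one_ft
    (h : ∀ (I : X.Modules) (i : I ⟶ Coh.structureModule X), Mono i →
      Coh.IsQCoh I → CohB1.IsFT I → Subsingleton (Coh.HH X I 1)) : IsAffine X :=
  H10Coh.isAffine_of_gammaExact (gammaExact_of_HH_one_ft h)

end Groth.Agent.LeadAff
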