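import Groth.Agent.H17.ConsPropBasic
import Groth.Agent.H10Coh.AffinePush
import Groth.Agent.H10Coh.FinType
import Groth.Agent.H10Coh.Support
import Groth.Agent.H17.Primary
import Groth.Agent.H17.AssPts

/-!
# A coherent module upstairs with prescribed integral support downstairs
-/

set_option autoImplicit false
set_option linter.style.haveILetI false
set_option linter.unusedSectionVars false

universe u

open CategoryTheory CategoryTheory.Limits AlgebraicGeometry Opposite TopologicalSpace

namespace Groth.Agent.LeadAff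

theorem exists_coh_support {Y X : Scheme.{u}} (f : Y ⟶ X) [IsFinite f] [Surjective f] [IsLocallyNoetherian X]
    (Z : Scheme.{u}) (i : Z ⟶ X) [IsClosedImmersion i] [IsIntegral Z] :
    ∃ F : Y.Modules, Coh.IsCoh F ∧ CohB1.support ((Coh.push f).obj F) = Set.range ⇑i ∧
      ∀ a ∈ IsLocalRing.maximalIdeal (X.presheaf.stalk (i (genericPoint Z))),
        ∀ m : ↑(((Coh.push f).obj F).presheaf.stalk (i (genericPoint Z))), a • m = 0 := by
  obtain ⟨y, hy⟩ := f.surjective (i (genericPoint Z))
  let C : Closeds Y := ⟨closure {y}, isClosed_closure⟩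
  let I := Scheme.IdealSheafData.vanishingIdeal C
  let T := I.subscheme
  let j : T ⟶ Y := I.subschemeι
  have hr : Set.range j = closure {y} := by
    show Set.range I.subschemeι = _
    rw [Scheme.IdealSheafData.range_subschemeι, Scheme.IdealSheafData.coe_support_vanishingIdeal]
    rfl
  obtain ⟨t, ht⟩ : y ∈ Set.range j := hr.symm ▸ subset_closure rfl
  have hgen : closure ({t} : Set T) = Set.univ := Set.eq_univ_of_forall fun w => by
    refine (j.isEmbedding.isInducing.specializes_iff.1 ?_).mem_closure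
    rw [ht, specializes_iff_mem_closure, ← hr]
    exact Set.mem_range_self w
  haveI : IrreducibleSpace T := (irreducibleSpace_def _).2
    (show IsIrreducible (Set.univ : Set T) by rw [← hgen]; exact isIrreducible_singleton.closure)
  haveI : IsReduced T := H17.isReduced_vanishingIdeal_subscheme _
  haveI : IsIntegral T := isIntegral_of_irreducibleSpace_of_isReduced _
  have htg : t = genericPoint T := (show IsGenericPoint t (Set.univ : Set T) from hgen).eq (genericPoint_spec T)
  let g := j ≫ f
  haveI : IsFinite g := inferInstanceAs (IsFinite (j ≫ f))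
  have hξ : g (genericPoint T) = i (genericPoint Z) := by
    rw [← htg]; show f (j t) = _; rw [ht, hy]
  have hZr : Set.range i = closure {i (genericPoint Z)} := by
    rw [← i.isClosedEmbedding.isClosed_range.closure_eq, ← Set.image_univ, ← (genericPoint_spec Z).def,
      ← i.isClosedEmbedding.closure_image_eq, Set.image_singleton, closure_closure]
  have hgr : Set.range g = Set.range i := by
    refine Set.Subset.antisymm ?_ ?_
    · rintro _ ⟨w, rfl⟩
      rw [hZr, ← hξ]
      exact ((genericPoint_spec T).specializes trivial).map g.continuous |>.mem_closure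
    · rw [hZr]
      refine closure_minimal (Set.singleton_subset_iff.2 ⟨genericPoint T, hξ⟩) g.isClosedMap.isClosed_range
  haveI : (Coh.structureModule T).IsQuasicoherent := H10Coh.isQuasicoherent_unit
  have hO : Coh.IsCoh (Coh.structureModule T) :=
    (H10Coh.isCoh_iff_finite_sections _).2 ⟨inferInstance, fun U _ => (Module.Finite.self Γ(T, U) :)⟩
  let F := (Coh.push j).obj (Coh.structureModule T)
  let G := (Coh.push g).obj (Coh.structureModule T)
  let e : (Coh.push f).obj F ≅ G := (Scheme.Modules.pushforwardComp j f).app (Coh.structureModule T)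
  have hzero : ∀ {W : X.Opens} (a : Γ(X, W)), i (genericPoint Z) ∉ X.basicOpen a → g.app W a = 0 := by
    intro W a ha
    refine (basicOpen_eq_bot_iff _).1 (Opens.ext (Set.eq_empty_iff_forall_notMem.2 fun z hz => ha ?_))
    have h : genericPoint T ∈ T.basicOpen (g.app W a) :=
      ((genericPoint_spec T).mem_open_set_iff (T.basicOpen (g.app W a)).2).2 ⟨z, trivial, hz⟩
    rw [← Scheme.preimage_basicOpen, ← hξ] at *
    exact h
  have hkill : ∀ a ∈ IsLocalRing.maximalIdeal (X.presheaf.stalk (i (genericPoint Z))),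
      ∀ m : G.presheaf.stalk (i (genericPoint Z)), a • m = 0 := by
    intro a ha m
    obtain ⟨U, hU, s, rfl⟩ := G.presheaf.exists_germ_eq m
    obtain ⟨V, hV, a', rfl⟩ := X.presheaf.exists_germ_eq a
    rw [← TopCat.Presheaf.germ_res_apply G.presheaf (homOfLE (inf_le_left : U ⊓ V ≤ U)) _ ⟨hU, hV⟩ s,
      ← TopCat.Presheaf.germ_res_apply X.presheaf (homOfLE (inf_le_right : U ⊓ V ≤ V)) _ ⟨hU, hV⟩ a']
    refine (H17.AssPts.germ_smul' G (show i (genericPoint Z) ∈ U ⊓ V from ⟨hU, hV⟩) _ _).symm.trans ?_
    have h0 := hzero (X.presheaf.map (homOfLE (inf_le_right : U ⊓ V ≤ V)).op a') fun hb => ha (by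
      rw [← TopCat.Presheaf.germ_res_apply X.presheaf (homOfLE (inf_le_right : U ⊓ V ≤ V)) _ ⟨hU, hV⟩ a']
      exact (H17.AssPts.isUnit_germ_iff (show i (genericPoint Z) ∈ U ⊓ V from ⟨hU, hV⟩) _).2 hb)
    refine Eq.trans (congrArg _ ?_) (map_zero (G.presheaf.germ (U ⊓ V) _ ⟨hU, hV⟩).hom)
    show g.app (U ⊓ V) _ * (show Γ(T, g ⁻¹ᵁ (U ⊓ V)) from G.presheaf.map _ s) = 0
    rw [h0, zero_mul]
  refine ⟨F, H10Coh.isCoh_push_of_isFinite j _ hO, ?_, fun a ha m => ?_⟩
  · refine Set.Subset.antisymm (fun x hx => ?_) ?_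
    · by_contra hxr
      refine hx (subsingleton_of_forall_eq 0 fun m => ?_)
      obtain ⟨U, hxU, s, rfl⟩ := TopCat.Presheaf.exists_germ_eq _ m
      let V : X.Opens := U ⊓ ⟨(Set.range g)ᶜ, g.isClosedMap.isClosed_range.isOpen_compl⟩
      have hV : g ⁻¹ᵁ V = ⊥ := Opens.ext (Set.eq_empty_iff_forall_notMem.2 fun z hz => hz.2 ⟨z, rfl⟩)
      haveI : Subsingleton Γ(T, g ⁻¹ᵁ V) := by rw [hV]; infer_instance
      rw [← TopCat.Presheaf.germ_res_apply _ (homOfLE (inf_le_left : V ≤ U)) x ⟨hxU, show x ∉ Set.range g by rw [hgr]; exact hxr⟩,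
        show ((Coh.push f).obj F).presheaf.map (homOfLE (inf_le_left : V ≤ U)).op s = 0 from
          Subsingleton.elim (α := Γ(T, g ⁻¹ᵁ V)) _ _, map_zero]
    · rw [hZr]
      refine (H10Coh.isClosed_support _ ?_).closure_subset_iff.2 (Set.singleton_subset_iff.2 ?_)
      · exact (H10Coh.isCoh_push_of_isFinite f F (H10Coh.isCoh_push_of_isFinite j _ hO)).2
      intro hs
      haveI : Subsingleton (((Coh.push f).obj F).presheaf.stalk (i (genericPoint Z))) := hs
      obtain ⟨W, hW, hξW, -⟩ := exists_isAffineOpen_mem_and_subset (U := (⊤ : X.Opens)) (x := i (genericPoint Z)) trivial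
      have hqc : Coh.IsQCoh ((Coh.push f).obj F) :=
        (H10Coh.isCoh_push_of_isFinite f F (H10Coh.isCoh_push_of_isFinite j _ hO)).1
      obtain ⟨c, hc, hc0⟩ := H17.AssPts.exists_smul_eq_zero_of_germ ((Coh.push f).obj F) hqc hW hξW
        (s := (show Γ((Coh.push f).obj F, W) from (1 : Γ(T, g ⁻¹ᵁ W)))) (Subsingleton.elim _ _)
      have h1 : g.app W c = 0 := (mul_one _).symm.trans hc0
      have h2 : genericPoint T ∈ g ⁻¹ᵁ X.basicOpen c := by show g _ ∈ X.basicOpen c; rw [hξ]; exact hc
      rw [Scheme.preimage_basicOpen, h1, Scheme.basicOpen_zero] at h2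
      exact h2
  · haveI : IsIso (Scheme.Modules.Hom.mapPresheaf e.hom) :=
      inferInstanceAs (IsIso ((Scheme.Modules.toPresheaf X).map e.hom))
    refine (ConcreteCategory.bijective_of_isIso
      ((TopCat.Presheaf.stalkFunctor AddCommGrpCat.{u} (i (genericPoint Z))).map
        (Scheme.Modules.Hom.mapPresheaf e.hom))).1 ?_
    refine Eq.trans ?_ (map_zero _).symm
    exact (LinearMap.map_smul (H06Mod.stalkLin e.hom _) a m).trans (hkill a ha _)

end Groth.Agent.LeadAff
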