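import Groth.Agent.H10Coh.Serre
import Groth.Agent.H10Coh.Bounded
import Groth.Agent.H10Coh.ExtMap
import Groth.Agent.H10Coh.GenHom
import Groth.Agent.H11Tilde.TwistPow

/-!
# Quasi-affine schemes with acyclic structure sheaf are affine
-/

set_option autoImplicit false
set_option linter.style.haveILetI false
set_option linter.unusedSectionVars false

universe u

open CategoryTheory CategoryTheory.Limits AlgebraicGeometry Opposite TopologicalSpace

namespace Groth.Agent.LeadAff

open Groth.Agent.H10Coh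

attribute [local instance 10000] hasSheafifyAb hasWeakSheafifyAb hasExtAb enoughInjAb

variable {X : Scheme.{u}}

/-- Quasi-coherent with finite projective sections on affines. -/
def Loc (K : X.Modules) : Prop :=
  Coh.IsQCoh K ∧ ∀ W : X.Opens, IsAffineOpen W → Module.Finite Γ(X, W) Γ(K, W) ∧ Module.Projective Γ(X, W) Γ(K, W)

theorem exists_decomp (I : Type u) [Fintype I] :
    ∃ p : I → (freeMod X I ⟶ Coh.structureModule X),
      (∀ i, freeIncl I i ≫ p i = 𝟙 _) ∧ (∀ i j, j ≠ i → freeIncl I j ≫ p i = 0) ∧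
        ∑ i, p i ≫ freeIncl I i = 𝟙 (freeMod X I) := by
  classical
  choose p hp using fun i : I => exists_free_desc (X := X) (N := Coh.structureModule X)
    fun j => if j = i then 𝟙 _ else 0
  refine ⟨p, fun i => by rw [hp, if_pos rfl], fun i j h => by rw [hp, if_neg h], free_hom_ext _ _ fun j => ?_⟩
  rw [Category.comp_id, Preadditive.comp_sum, Finset.sum_eq_single j]
  · rw [← Category.assoc, hp, if_pos rfl]
    exact Category.id_comp _
  · intro i _ hi
    rw [← Category.assoc, hp, if_neg hi.symm, zero_comp]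
  · simp

theorem loc_free (I : Type u) [Fintype I] : Loc (freeMod X I) := by
  classical
  refine ⟨isQuasicoherent_coproduct' I, fun W _ => ?_⟩
  obtain ⟨p, hp1, hp0, hsum⟩ := exists_decomp (X := X) I
  let toF : Γ(freeMod X I, W) →ₗ[Γ(X, W)] (I → Γ(X, W)) :=
    { toFun := fun z i => (p i).app W z
      map_add' := fun a b => funext fun i => map_add _ _ _
      map_smul' := fun a b => funext fun i => Scheme.Modules.Hom.app_smul (p i) a b }
  have hinj : Function.Injective toF := fun a b h => by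
    have key : ∀ z : Γ(freeMod X I, W), z = ∑ i, (freeIncl I i).app W ((p i).app W z) := fun z =>
      ((congrArg (fun φ : freeMod X I ⟶ freeMod X I => φ.app W z) hsum).symm.trans (app_sum_apply _ W z))
    rw [key a, key b]
    exact Finset.sum_congr rfl fun i _ => congrArg _ (congrFun h i)
  have hsurj : Function.Surjective toF := fun v => by
    refine ⟨∑ j, (freeIncl I j).app W (show Γ(Coh.structureModule X, W) from v j), funext fun i => ?_⟩
    show (p i).app W _ = v i
    rw [map_sum, Finset.sum_eq_single i]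
    · exact congr($(congr(Scheme.Modules.Hom.app $(hp1 i) W)) (show Γ(Coh.structureModule X, W) from v i))
    · intro j _ hj
      exact congr($(congr(Scheme.Modules.Hom.app $(hp0 i j hj) W)) (show Γ(Coh.structureModule X, W) from v j))
    · simp
  let e := LinearEquiv.ofBijective toF ⟨hinj, hsurj⟩
  exact ⟨Module.Finite.equiv e.symm, Module.Projective.of_equiv e.symm⟩

theorem loc_structureModule : Loc (Coh.structureModule X) :=
  ⟨isQuasicoherent_unit, fun W _ => ⟨inferInstanceAs (Module.Finite Γ(X, W) Γ(X, W)),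
    inferInstanceAs (Module.Projective Γ(X, W) Γ(X, W))⟩⟩

theorem loc_kernel {F K : X.Modules} (π : F ⟶ K) [Epi π] (hF : Loc F) (hK : Loc K) : Loc (kernel π) := by
  haveI := hF.1
  haveI := hK.1
  refine ⟨isQuasicoherent_kernel π, fun W hW => ?_⟩
  obtain ⟨hf, hfp⟩ := hF.2 W hW
  obtain ⟨-, hkp⟩ := hK.2 W hW
  let P : Γ(F, W) →ₗ[Γ(X, W)] Γ(K, W) :=
    { toFun := π.app W, map_add' := map_add _, map_smul' := fun a b => Scheme.Modules.Hom.app_smul π a b }
  let J : Γ(kernel π, W) →ₗ[Γ(X, W)] Γ(F, W) :=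
    { toFun := (kernel.ι π).app W, map_add' := map_add _, map_smul' := fun a b => Scheme.Modules.Hom.app_smul _ a b }
  obtain ⟨s, hs⟩ := Module.projective_lifting_property P LinearMap.id (surjective_app_of_epi π hW)
  have hJ : Function.Injective J := injective_app_of_mono' (kernel.ι π) W
  have hex : ∀ x, P x = 0 → ∃ y, J y = x := exists_app_eq_of_exact (shortExact_kernel π) W
  have hmem : ∀ x, ∃ y, J y = x - s (P x) := fun x => hex _ (by
    rw [map_sub, show P (s (P x)) = P x from LinearMap.congr_fun hs (P x), sub_self])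
  choose r hr using hmem
  let R : Γ(F, W) →ₗ[Γ(X, W)] Γ(kernel π, W) :=
    { toFun := r
      map_add' := fun a b => hJ (by simp only [hr, map_add]; abel)
      map_smul' := fun a b => hJ (by simp only [hr, map_smul, RingHom.id_apply, smul_sub]) }
  have hRJ : R.comp J = LinearMap.id := LinearMap.ext fun y => hJ (by
    show J (r (J y)) = J y
    rw [hr, show P (J y) = 0 from congr($(congr(Scheme.Modules.Hom.app $(kernel.condition π) W)) y), map_zero, sub_zero])
  exact ⟨Module.Finite.of_surjective R fun y => ⟨J y, LinearMap.congr_fun hRJ y⟩, Module.Projective.of_split J R hRJ⟩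

/-- A quasi-coherent module with finite sections on affines is a quotient of a finite free one. -/
theorem exists_epi_free [X.IsQuasiAffine] {K : X.Modules} (hK : Loc K) :
    ∃ (I : Type u) (_ : Fintype I) (π : freeMod X I ⟶ K), Epi π := by
  classical
  haveI := hK.1
  obtain ⟨s, hs, hcov⟩ := Opens.isBasis_iff_cover.1 (Scheme.IsQuasiAffine.isBasis_basicOpen X) (⊤ : X.Opens)
  obtain ⟨t, ht⟩ := isCompact_univ.elim_finite_subcover (fun V : s => ((V.1 : X.Opens) : Set X)) (fun V => V.1.2)
    (fun x _ => by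
      obtain ⟨V, hV, hxV⟩ := Opens.mem_sSup.1 (hcov ▸ Opens.mem_top x)
      exact Set.mem_iUnion.2 ⟨⟨V, hV⟩, hxV⟩)
  choose r hr hV using fun V : t => hs V.1.2
  have hfin : ∀ V : t, ∃ S : Finset Γ(K, X.basicOpen (r V)),
      Submodule.span Γ(X, X.basicOpen (r V)) (↑S : Set Γ(K, X.basicOpen (r V))) = ⊤ :=
    fun V => (hK.2 _ (hr V)).1.1
  choose S hS using hfin
  choose n g hg using fun (z : (V : t) × S V) => exists_pow_smul_eq_res_of_isCompact K
    (W := (⊤ : X.Opens)) isCompact_univ (r z.1) z.2.1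
  let I : Type u := (V : t) × S V
  obtain ⟨π, hπ⟩ := exists_free_desc (X := X) (N := K) fun z : I => H11Tilde.homOfGlobal K (g z)
  refine ⟨I, inferInstance, π, epi_of_surjective_on_cover π hK.1 (fun V : t => X.basicOpen (r V)) hr (fun x => ?_) fun V => ?_⟩
  · obtain ⟨V, hVt, hxV⟩ := Set.mem_iUnion₂.1 (ht (Set.mem_univ x))
    exact ⟨⟨V, hVt⟩, (hV ⟨V, hVt⟩).symm ▸ hxV⟩
  refine ⟨S V, hS V, fun σ hσ => ?_⟩
  let z : I := ⟨V, σ, hσ⟩
  have hu : IsUnit (X.presheaf.map (homOfLE (X.basicOpen_le (r V))).op (r V ^ n z)) := by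
    rw [map_pow]; exact (X.toRingedSpace.isUnit_res_basicOpen (r V)).pow _
  obtain ⟨c, hc⟩ := hu.exists_left_inv
  refine ⟨c • (freeIncl I z).app _ (show Γ(Coh.structureModule X, X.basicOpen (r V)) from (1 : Γ(X, X.basicOpen (r V)))), ?_⟩
  rw [Scheme.Modules.Hom.app_smul, show π.app (X.basicOpen (r V)) ((freeIncl I z).app _ _) =
    (H11Tilde.homOfGlobal K (g z)).app (X.basicOpen (r V)) _ from congr($(congr(Scheme.Modules.Hom.app $(hπ z) _)) _),
    H11Tilde.homOfGlobal_app]
  show c • ((1 : Γ(X, X.basicOpen (r V))) • K.presheaf.map _ (g z)) = σ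
  rw [one_smul, hg z, smul_smul, hc, one_smul]

variable (hO : ∀ p : ℕ, 0 < p → Subsingleton (Coh.HH X (Coh.structureModule X) p))

include hO

theorem subsingleton_free (I : Type u) [Fintype I] {p : ℕ} (hp : 0 < p) :
    Subsingleton (HnM (freeMod X I) p ⊤) := by
  have h0 : Subsingleton (HnM (Coh.structureModule X) p ⊤) :=
    @Equiv.subsingleton _ _ (HHEquiv _ p).toEquiv.symm (hO p hp)
  obtain ⟨q, -, -, hsum⟩ := exists_decomp (X := X) I
  refine subsingleton_of_forall_eq 0 fun x => ?_
  rw [← Abelian.Ext.comp_mk₀_id x, show 𝟙 (sh (freeMod X I)) = ∑ i, (shF X).map (q i) ≫ (shF X).map (freeIncl I i) by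
    simp only [← Functor.map_comp, ← Functor.map_sum, hsum]; exact ((shF X).map_id _).symm]
  rw [Abelian.Ext.mk₀_sum, Abelian.Ext.comp_sum]
  refine Finset.sum_eq_zero fun i _ => ?_
  rw [← Abelian.Ext.mk₀_comp_mk₀, ← Abelian.Ext.comp_assoc_of_second_deg_zero, h0.elim (x.comp _ (add_zero p)) 0,
    Abelian.Ext.zero_comp]

theorem subsingleton_loc [X.IsQuasiAffine] {K : X.Modules} (hK : Loc K) {p : ℕ} (hp : 0 < p) :
    Subsingleton (HnM K p ⊤) := by
  obtain ⟨d, hd⟩ := exists_bound (X := X)
  have key : ∀ k (K : X.Modules) (p : ℕ), Loc K → 0 < p → d ≤ p + k → Subsingleton (HnM K p ⊤) := by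
    intro k
    induction k with
    | zero =>
      intro K p hK hp hdp
      exact @Equiv.subsingleton _ _ (HHEquiv K p).toEquiv.symm (hd K hK.1 p hdp)
    | succ k ih =>
      intro K p hK hp hdp
      obtain ⟨I, hI, π, hπ⟩ := exists_epi_free hK
      have h1 := ih (kernel π) (p + 1) (loc_kernel π (loc_free I) hK) (Nat.succ_pos p) (by omega)
      have h2 := subsingleton_free hO I hp
      refine subsingleton_of_forall_eq 0 fun x => ?_
      have hS := shortExact_sh (shortExact_kernel π)
      obtain ⟨y, rfl⟩ := Abelian.Ext.covariant_sequence_exact₃ _ hS x rfl (h1.elim _ _)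
      rw [show y = 0 from h2.elim _ _]
      exact Abelian.Ext.zero_comp (C := CohTop.Ab X.toTopCat) _ _ _ _ _
  exact key d K p hK hp (Nat.le_add_left d p)

theorem isAffine_of_isQuasiAffine [X.IsQuasiAffine] : IsAffine X := by
  classical
  obtain ⟨s, hs, hcov⟩ := Opens.isBasis_iff_cover.1 (Scheme.IsQuasiAffine.isBasis_basicOpen X) (⊤ : X.Opens)
  obtain ⟨t, ht⟩ := isCompact_univ.elim_finite_subcover (fun V : s => ((V.1 : X.Opens) : Set X)) (fun V => V.1.2)
    (fun x _ => by
      obtain ⟨V, hV, hxV⟩ := Opens.mem_sSup.1 (hcov ▸ Opens.mem_top x)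
      exact Set.mem_iUnion.2 ⟨⟨V, hV⟩, hxV⟩)
  choose r hr hV using fun V : t => hs V.1.2
  obtain ⟨π, hπ⟩ := exists_free_desc (X := X) (N := Coh.structureModule X)
    fun V : t => H11Tilde.homOfGlobal (Coh.structureModule X) (show Γ(Coh.structureModule X, ⊤) from r V)
  have hπe : Epi π := by
    refine epi_of_surjective_on_cover π isQuasicoherent_unit (fun V : t => X.basicOpen (r V)) hr (fun x => ?_) fun V => ?_
    · obtain ⟨V, hVt, hxV⟩ := Set.mem_iUnion₂.1 (ht (Set.mem_univ x))
      exact ⟨⟨V, hVt⟩, (hV ⟨V, hVt⟩).symm ▸ hxV⟩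
    refine ⟨{(show Γ(Coh.structureModule X, X.basicOpen (r V)) from (1 : Γ(X, X.basicOpen (r V))))}, ?_, fun σ hσ => ?_⟩
    · exact Ideal.span_singleton_one (α := Γ(X, X.basicOpen (r V)))
    obtain ⟨c, hc⟩ := (X.toRingedSpace.isUnit_res_basicOpen (r V)).exists_right_inv
    refine ⟨(freeIncl _ V).app _ (show Γ(Coh.structureModule X, X.basicOpen (r V)) from c), ?_⟩
    rw [show π.app (X.basicOpen (r V)) ((freeIncl _ V).app _ _) =
      (H11Tilde.homOfGlobal (Coh.structureModule X) (show Γ(Coh.structureModule X, ⊤) from r V)).app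
        (X.basicOpen (r V)) _ from congr($(congr(Scheme.Modules.Hom.app $(hπ V) _)) _),
      H11Tilde.homOfGlobal_app, Set.mem_singleton_iff.1 hσ]
    exact (mul_comm c _).trans hc
  have h1 := subsingleton_loc hO (loc_kernel π (loc_free t) loc_structureModule) Nat.one_pos
  obtain ⟨z, hz⟩ := surjective_app_of_subsingleton_HnM (shortExact_kernel π) ⊤ h1
    (show Γ(Coh.structureModule X, ⊤) from (1 : Γ(X, ⊤)))
  refine isAffine_of_isAffineOpen_basicOpen (Set.range r) (Ideal.eq_top_iff_one _ |>.2 ?_) (by rintro _ ⟨V, rfl⟩; exact hr V)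
  obtain ⟨q, -, -, hsum⟩ := exists_decomp (X := X) (t : Type u)
  have hval : (1 : Γ(X, ⊤)) = ∑ V, (show Γ(X, ⊤) from (q V).app ⊤ z) * r V := by
    refine hz.symm.trans ?_
    rw [show π.app ⊤ z = (∑ V, q V ≫ freeIncl _ V ≫ π).app ⊤ z by
      simp only [← Category.assoc, ← Preadditive.sum_comp, hsum]; exact congr($(congr(Scheme.Modules.Hom.app $((Category.id_comp π).symm) ⊤)) z),
      app_sum_apply]
    refine Finset.sum_congr rfl fun V _ => ?_
    rw [Scheme.Modules.Hom.comp_app, ConcreteCategory.comp_apply, hπ V, H11Tilde.homOfGlobal_app]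
    show (show Γ(X, ⊤) from (q V).app ⊤ z) * X.presheaf.map (homOfLE le_rfl).op (r V) = _
    rw [show (homOfLE (le_refl (⊤ : X.Opens))).op = 𝟙 _ from rfl, X.presheaf.map_id]
    rfl
  rw [hval]
  exact Ideal.sum_mem _ fun V _ => Ideal.mul_mem_left _ _ (Ideal.subset_span ⟨V, rfl⟩)

end Groth.Agent.LeadAff
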